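import Groth.Agent.Lib.SmoothConn.Main
import Mathlib.LinearAlgebra.Vandermonde
import Mathlib.LinearAlgebra.Matrix.NonsingularInverse
import Mathlib.FieldTheory.Galois.IsGaloisGroup
import Mathlib.FieldTheory.PrimitiveElement
import Mathlib.RingTheory.Invariant.Basic
import Mathlib.RingTheory.DedekindDomain.IntegralClosure

/-!
# Trivial inertia and unramifiedness over a henselian normal local domain
-/

universe u

open Polynomial
open scoped Matrix Pointwise

namespace Groth.Agent.InertiaUnram4

variable {R S G : Type u} [CommRing R] [CommRing S] [Algebra R S]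
  [Group G] [Finite G] [MulSemiringAction G S] [SMulCommClass G R S]

/-- An element with pairwise "unit-different" conjugates generates the invariant extension. -/
theorem exists_aeval_eq [Algebra.IsInvariant R S G] (x : S)
    (hx : ∀ g : G, g ≠ 1 → IsUnit (g • x - x)) (s : S) :
    ∃ P : R[X], P.natDegree < Nat.card G + 1 ∧ aeval x P = s := by
  classical
  cases nonempty_fintype G
  let e : Fin (Fintype.card G) ≃ G := (Fintype.equivFin G).symm
  let V : Matrix (Fin (Fintype.card G)) (Fin (Fintype.card G)) S :=
    Matrix.vandermonde fun i => e i • x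
  have hV : IsUnit V.det := by
    rw [Matrix.det_vandermonde]
    refine IsUnit.prod_iff.mpr fun i _ => IsUnit.prod_iff.mpr fun j hj => ?_
    have hne : (e i)⁻¹ * e j ≠ 1 := fun h => by
      have := e.injective (inv_mul_eq_one.mp h)
      exact (Finset.mem_Ioi.mp hj).ne this
    have := (hx _ hne).map (MulSemiringAction.toRingHom G S (e i))
    simpa [smul_sub, mul_smul] using this
  let c : Fin (Fintype.card G) → S := V⁻¹ *ᵥ fun i => e i • s
  have hc : V *ᵥ c = fun i => e i • s := by
    show V *ᵥ (V⁻¹ *ᵥ _) = _
    rw [Matrix.mulVec_mulVec, Matrix.mul_nonsing_inv V hV, Matrix.one_mulVec]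
  have hc' : ∀ (g : G), ∑ j : Fin (Fintype.card G), (g • x) ^ (j : ℕ) * c j = g • s := fun g => by
    obtain ⟨i, rfl⟩ := e.surjective g
    simpa [Matrix.mulVec, dotProduct, V, Matrix.vandermonde_apply] using congrFun hc i
  have hinv : ∀ (h : G) j, h • c j = c j := by
    intro h
    have : V *ᵥ (fun j => h • c j) = V *ᵥ c := by
      rw [hc]
      funext i
      simp only [Matrix.mulVec, dotProduct, V, Matrix.vandermonde_apply]
      have := congrArg (h • ·) (hc' (h⁻¹ * e i))
      simpa [Finset.smul_sum, smul_mul', smul_pow', ← mul_smul] using this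
    exact fun j => congrFun (Matrix.mulVec_injective_of_isUnit ((Matrix.isUnit_iff_isUnit_det V).mpr hV) this) j
  choose r hr using fun j => Algebra.IsInvariant.isInvariant (A := R) (G := G) (c j) fun h => hinv h j
  refine ⟨∑ j : Fin (Fintype.card G), C (r j) * X ^ (j : ℕ), ?_, ?_⟩
  · rw [Nat.lt_succ_iff]
    refine natDegree_sum_le_of_forall_le _ _ fun j _ => (natDegree_C_mul_X_pow_le _ _).trans ?_
    rw [Nat.card_eq_fintype_card]
    exact j.2.le
  · have := hc' 1
    simp only [one_smul] at this
    rw [map_sum, ← this]
    refine Finset.sum_congr rfl fun j _ => ?_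
    rw [map_mul, aeval_C, map_pow, aeval_X, hr, mul_comm]

variable [IsDomain R] [IsDomain S] [IsNoetherianRing R] [IsIntegrallyClosed R]
  [FaithfulSMul R S] [IsIntegrallyClosed S] [IsGaloisGroup G R S]

variable (R S G) in
include G in
theorem module_finite : Module.Finite R S := by
  haveI : Algebra.IsIntegral R S := Algebra.IsInvariant.isIntegral R S G
  letI := FractionRing.liftAlgebra R (FractionRing S)
  letI := IsFractionRing.mulSemiringAction G S (FractionRing S)
  haveI := IsGaloisGroup.to_isFractionRing_of_isIntegral G R S (FractionRing R) (FractionRing S)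
  haveI := IsGaloisGroup.finiteDimensional G (FractionRing R) (FractionRing S)
  haveI := IsGaloisGroup.isGalois G (FractionRing R) (FractionRing S)
  haveI : IsIntegralClosure S R (FractionRing S) := IsIntegralClosure.of_isIntegrallyClosed S R (FractionRing S)
  exact IsIntegralClosure.finite R (FractionRing R) (FractionRing S) S

variable [HenselianLocalRing R] (n : Ideal S) [n.IsMaximal] [n.LiesOver (IsLocalRing.maximalIdeal R)]

/-- Over a henselian normal local domain the inertia group is trivial iff the extension is
unramified at the closed point. -/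
theorem inertia_eq_bot_iff :
    n.toAddSubgroup.inertia G = ⊥ ↔
      ((IsLocalRing.maximalIdeal R).map (algebraMap R S) = n ∧
        Module.Finite (R ⧸ IsLocalRing.maximalIdeal R) (S ⧸ n) ∧
        Algebra.IsSeparable (R ⧸ IsLocalRing.maximalIdeal R) (S ⧸ n)) := by
  classical
  cases nonempty_fintype G
  haveI : Module.Finite R S := module_finite R S G
  haveI : Algebra.IsIntegral R S := Algebra.IsIntegral.of_finite R S
  haveI : IsLocalRing S := GrothLib.SmoothConn.isLocalRing_of_integral_domain R S
  haveI : IsNoetherianRing S := IsNoetherianRing.of_finite R S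
  have hn : n = IsLocalRing.maximalIdeal S := IsLocalRing.eq_maximalIdeal ‹_›
  have hunit : ∀ y : S, Ideal.Quotient.mk n y ≠ 0 → IsUnit y := fun y hy => by
    by_contra h
    exact hy (Ideal.Quotient.eq_zero_iff_mem.mpr (hn ▸ h))
  let m := IsLocalRing.maximalIdeal R
  letI : Field (R ⧸ m) := Ideal.Quotient.field m
  letI : Field (S ⧸ n) := Ideal.Quotient.field n
  have hstab : ∀ g : G, g ∈ MulAction.stabilizer G n := fun g => by
    haveI : (g • n).IsMaximal := Ideal.map_isMaximal_of_equiv (MulSemiringAction.toRingEquiv G S g)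
    exact (IsLocalRing.eq_maximalIdeal this).trans hn.symm
  let φ : G → ((S ⧸ n) ≃ₐ[R ⧸ m] (S ⧸ n)) := fun g =>
    Ideal.Quotient.stabilizerHom n m G ⟨g, hstab g⟩
  have hφ : ∀ (g : G) (y : S), φ g (Ideal.Quotient.mk n y) = Ideal.Quotient.mk n (g • y) := fun _ _ => rfl
  haveI : Module.Finite (R ⧸ m) (S ⧸ n) := by
    haveI : Module.Finite R (S ⧸ n) :=
      Module.Finite.of_surjective (Ideal.Quotient.mkₐ R n).toLinearMap Ideal.Quotient.mk_surjective
    exact Module.Finite.of_restrictScalars_finite R _ _
  constructor
  · intro hI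
    have hfix : ∀ g : G, (∀ y : S ⧸ n, φ g y = y) → g = 1 := fun g hg => by
      have : g ∈ n.toAddSubgroup.inertia G := fun y => by
        rw [Submodule.mem_toAddSubgroup, ← Ideal.Quotient.eq, ← hφ, hg]
      rwa [hI, Subgroup.mem_bot] at this
    let E : IntermediateField (R ⧸ m) (S ⧸ n) := IntermediateField.fixedField ⊤
    haveI : Finite ((⊤ : Subgroup ((S ⧸ n) ≃ₐ[R ⧸ m] (S ⧸ n)))) := inferInstance
    haveI : IsGalois E (S ⧸ n) :=
      IsGalois.of_fixed_field (E := S ⧸ n) (⊤ : Subgroup ((S ⧸ n) ≃ₐ[R ⧸ m] (S ⧸ n)))
    obtain ⟨a, ha⟩ := Field.exists_primitive_element E (S ⧸ n)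
    obtain ⟨x, hxa⟩ := Ideal.Quotient.mk_surjective a
    have hdist : ∀ g : G, g ≠ 1 → IsUnit (g • x - x) := by
      refine fun g hg => hunit _ fun h => hg (hfix g fun y => ?_)
      rw [map_sub, sub_eq_zero, ← hφ, hxa] at h
      let ψ : (S ⧸ n) →ₐ[E] (S ⧸ n) :=
        { (φ g : (S ⧸ n) →ₐ[R ⧸ m] (S ⧸ n)).toRingHom with
          commutes' := fun z => z.2 ⟨φ g, Subgroup.mem_top _⟩ }
      have hy : y ∈ Algebra.adjoin E {a} := by
        rw [← IntermediateField.adjoin_simple_toSubalgebra_of_isAlgebraic
          (Algebra.IsAlgebraic.isAlgebraic a), ha]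
        trivial
      have : Algebra.adjoin E {a} ≤ AlgHom.equalizer ψ (AlgHom.id E _) :=
        Algebra.adjoin_le (by simpa [ψ] using h)
      exact this hy
    have hgen := fun s => exists_aeval_eq (R := R) x hdist s
    have hbar : ∀ P : R[X], aeval a (P.map (Ideal.Quotient.mk m)) = Ideal.Quotient.mk n (aeval x P) := by
      intro P
      induction P using Polynomial.induction_on' with
      | add p q hp hq => simp [hp, hq]
      | monomial k r =>
        simp only [map_monomial, aeval_monomial, map_mul, map_pow, hxa]
        rfl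
    obtain ⟨F, hFmap, hFdeg, hFmonic⟩ := Polynomial.lifts_and_natDegree_eq_and_monic
      (Algebra.IsInvariant.charpoly_mem_lifts R S G x) (MulSemiringAction.monic_charpoly G x)
    have hFx : aeval x F = 0 := by
      rw [aeval_def, ← eval_map, hFmap, MulSemiringAction.eval_charpoly]
    let f : (R ⧸ m)[X] := F.map (Ideal.Quotient.mk m)
    have hfmap : f.map (algebraMap (R ⧸ m) (S ⧸ n)) = ∏ g : G, (X - C (φ g a)) := by
      have : (algebraMap (R ⧸ m) (S ⧸ n)).comp (Ideal.Quotient.mk m) =
          (Ideal.Quotient.mk n).comp (algebraMap R S) := rfl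
      rw [Polynomial.map_map, this, ← Polynomial.map_map, hFmap, MulSemiringAction.charpoly_eq,
        Polynomial.map_prod]
      refine Finset.prod_congr rfl fun g _ => ?_
      rw [Polynomial.map_sub, map_X, map_C, ← hxa, hφ]
    have hφinj : Function.Injective fun g : G => φ g a := by
      intro g h hgh
      by_contra hne
      have hne' : h⁻¹ * g ≠ 1 := fun h1 => hne (inv_mul_eq_one.mp h1).symm
      have hu := (hdist _ hne').map (MulSemiringAction.toRingHom G S h)
      have h0 : Ideal.Quotient.mk n (h • ((h⁻¹ * g) • x - x)) ≠ 0 := fun h0 => by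
        have hmem := Ideal.Quotient.eq_zero_iff_mem.mp h0
        exact (IsLocalRing.notMem_maximalIdeal.mpr hu) (hn ▸ hmem)
      apply h0
      rw [smul_sub, ← mul_smul, mul_inv_cancel_left, map_sub, sub_eq_zero, ← hφ, ← hφ, hxa]
      exact hgh
    have hsep : f.Separable := by
      rw [← separable_map (algebraMap (R ⧸ m) (S ⧸ n)), hfmap]
      exact Polynomial.separable_prod_X_sub_C_iff.mpr hφinj
    have hfdeg : f.natDegree = Fintype.card G := by
      rw [← natDegree_map (algebraMap (R ⧸ m) (S ⧸ n)), hfmap,
        natDegree_prod _ _ fun g _ => X_sub_C_ne_zero _]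
      simp
    have hmin : ∀ p : (R ⧸ m)[X], aeval a p = 0 → p.natDegree < Fintype.card G → p = 0 := by
      intro p hp hdeg
      by_contra hp0
      have hroots : Finset.univ.image (fun g : G => φ g a) ⊆ (p.aroots (S ⧸ n)).toFinset := by
        intro z hz
        obtain ⟨g, -, rfl⟩ := Finset.mem_image.mp hz
        rw [Multiset.mem_toFinset, mem_aroots]
        exact ⟨hp0, by rw [Polynomial.aeval_algHom_apply, hp, map_zero]⟩
      have h1 := (Finset.card_le_card hroots).trans (Multiset.toFinset_card_le _)
      rw [Finset.card_image_of_injective _ hφinj, Finset.card_univ] at h1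
      have h2 : (p.aroots (S ⧸ n)).card ≤ p.natDegree :=
        (Polynomial.card_roots' _).trans natDegree_map_le
      omega
    refine ⟨le_antisymm ?_ ?_, inferInstance, ?_⟩
    · rw [Ideal.map_le_iff_le_comap]
      exact (Ideal.over_def n m).le
    · intro s hs
      obtain ⟨P, -, rfl⟩ := hgen s
      have h0 : (P %ₘ F).map (Ideal.Quotient.mk m) = 0 := by
        refine hmin _ ?_ ?_
        · rw [hbar, aeval_modByMonic_eq_self_of_root hFx, Ideal.Quotient.eq_zero_iff_mem.mpr hs]
        · refine lt_of_le_of_lt natDegree_map_le ?_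
          rw [← hfdeg, hFmonic.natDegree_map]
          refine natDegree_modByMonic_lt P hFmonic fun h1 => ?_
          have := hfdeg
          rw [show f = 1 by simp [f, h1], natDegree_one] at this
          exact Fintype.card_ne_zero this.symm
      rw [← aeval_modByMonic_eq_self_of_root hFx, aeval_eq_sum_range]
      refine Ideal.sum_mem _ fun i _ => ?_
      rw [Algebra.smul_def]
      refine Ideal.mul_mem_right _ _ (Ideal.mem_map_of_mem _ ?_)
      have := congrArg (fun p => p.coeff i) h0
      exact Ideal.Quotient.eq_zero_iff_mem.mp (by simpa [coeff_map] using this)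
    · have htop : IntermediateField.adjoin (R ⧸ m) {a} = ⊤ := by
        rw [eq_top_iff]
        intro y _
        obtain ⟨s, rfl⟩ := Ideal.Quotient.mk_surjective y
        obtain ⟨P, -, rfl⟩ := hgen s
        rw [← hbar]
        exact IntermediateField.algebra_adjoin_le_adjoin _ _ (aeval_mem_adjoin_singleton _ _)
      have hasep : IsSeparable (R ⧸ m) a :=
        hsep.of_dvd (minpoly.dvd _ _ (by rw [show f = F.map (Ideal.Quotient.mk m) from rfl, hbar, hFx, map_zero]))
      have : Algebra.IsSeparable (R ⧸ m) (IntermediateField.adjoin (R ⧸ m) {a}) :=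
        (IntermediateField.isSeparable_adjoin_simple_iff_isSeparable (R ⧸ m) (S ⧸ n)).mpr hasep
      rw [htop] at this
      exact Algebra.IsSeparable.of_equiv_equiv (RingEquiv.refl _)
        (IntermediateField.topEquiv (F := R ⧸ m) (E := S ⧸ n)).toRingEquiv (by ext z; rfl)
  · rintro ⟨hmn, -, hsep⟩
    rw [eq_bot_iff]
    intro g hg
    rw [Subgroup.mem_bot]
    obtain ⟨a, ha⟩ := Field.exists_primitive_element (R ⧸ m) (S ⧸ n)
    obtain ⟨x, hxa⟩ := Ideal.Quotient.mk_surjective a
    obtain ⟨F, hF⟩ := Polynomial.map_surjective _ (Ideal.Quotient.mk_surjective (I := m)) (minpoly (R ⧸ m) a)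
    have hbar : ∀ P : R[X], aeval a (P.map (Ideal.Quotient.mk m)) = Ideal.Quotient.mk n (aeval x P) := by
      intro P
      induction P using Polynomial.induction_on' with
      | add p q hp hq => simp [hp, hq]
      | monomial k r =>
        simp only [map_monomial, aeval_monomial, map_mul, map_pow, hxa]
        rfl
    have hFx : aeval x F ∈ n := by
      rw [← Ideal.Quotient.eq_zero_iff_mem, ← hbar, hF, minpoly.aeval]
    have hF'x : IsUnit (aeval x (derivative F)) := by
      refine hunit _ ?_
      rw [← hbar, ← derivative_map, hF]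
      exact Polynomial.Separable.aeval_derivative_ne_zero (Algebra.IsSeparable.isSeparable (R ⧸ m) a) (minpoly.aeval _ _)
    have hsplit : ∀ s : S, ∃ P : R[X], s - aeval x P ∈ n := by
      intro s
      have hs : Ideal.Quotient.mk n s ∈ Algebra.adjoin (R ⧸ m) {a} := by
        rw [← IntermediateField.adjoin_simple_toSubalgebra_of_isAlgebraic
          (Algebra.IsAlgebraic.isAlgebraic a), ha]
        trivial
      rw [Algebra.adjoin_singleton_eq_range_aeval] at hs
      obtain ⟨p, hp⟩ := hs
      obtain ⟨P, rfl⟩ := Polynomial.map_surjective _ (Ideal.Quotient.mk_surjective (I := m)) p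
      exact ⟨P, Ideal.Quotient.eq.mp (hp.symm.trans (hbar P))⟩
    have hgI : ∀ s : S, g • s - s ∈ n := hg
    have key : ∀ k : ℕ, ∀ s : S, g • s - s ∈ n ^ (k + 1) := by
      intro k
      induction k with
      | zero => simpa using hgI
      | succ k ih =>
        have hmul : ∀ y ∈ n, g • y - y ∈ n ^ (k + 1 + 1) := by
          intro y hy
          rw [← hmn] at hy
          induction hy using Submodule.span_induction with
          | mem z hz =>
            obtain ⟨r, -, rfl⟩ := hz
            rw [smul_algebraMap, sub_self]
            exact Ideal.zero_mem _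
          | zero => simp
          | add y z _ _ hy hz =>
            rw [smul_add, show g • y + g • z - (y + z) = (g • y - y) + (g • z - z) by ring]
            exact Ideal.add_mem _ hy hz
          | smul c z hz hiz =>
            have hzn : z ∈ n := by rw [← hmn]; exact hz
            rw [smul_eq_mul, smul_mul', show (g • c) * (g • z) - c * z =
              (g • c) * (g • z - z) + (g • c - c) * z by ring]
            refine Ideal.add_mem _ (Ideal.mul_mem_left _ _ hiz) ?_
            rw [pow_succ]
            exact Ideal.mul_mem_mul (ih c) hzn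
        have hgP : ∀ P : R[X], g • aeval x P = aeval (g • x) P := fun P =>
          (aeval_algHom_apply (MulSemiringAction.toAlgHom R S g) x P).symm
        have hx : g • x - x ∈ n ^ (k + 1 + 1) := by
          obtain ⟨c, hc⟩ : ∃ c, aeval (g • x) F - aeval x F =
              aeval x (derivative F) * (g • x - x) + c * (g • x - x) ^ 2 := by
            obtain ⟨c, hc⟩ := Polynomial.binomExpansion (F.map (algebraMap R S)) x (g • x - x)
            rw [add_sub_cancel, derivative_map, eval_map_algebraMap, eval_map_algebraMap,
              eval_map_algebraMap] at hc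
            exact ⟨c, by rw [hc]; ring⟩
          have hu : IsUnit (aeval x (derivative F) + c * (g • x - x)) := by
            refine hunit _ ?_
            rw [map_add, Ideal.Quotient.eq_zero_iff_mem.mpr (Ideal.mul_mem_left _ c (hgI x)), add_zero]
            intro h0
            exact (IsLocalRing.notMem_maximalIdeal.mpr hF'x) (hn ▸ Ideal.Quotient.eq_zero_iff_mem.mp h0)
          have hm' := hmul _ hFx
          rw [hgP, hc, show aeval x (derivative F) * (g • x - x) + c * (g • x - x) ^ 2 =
            (aeval x (derivative F) + c * (g • x - x)) * (g • x - x) by ring] at hm'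
          exact (Ideal.unit_mul_mem_iff_mem _ hu).mp hm'
        intro s
        obtain ⟨P, hP⟩ := hsplit s
        rw [show g • s - s = (g • (s - aeval x P) - (s - aeval x P)) +
          (g • aeval x P - aeval x P) by rw [smul_sub]; ring]
        refine Ideal.add_mem _ (hmul _ hP) ?_
        rw [hgP]
        obtain ⟨q, hq⟩ := sub_dvd_eval_sub (g • x) x (P.map (algebraMap R S))
        rw [eval_map_algebraMap, eval_map_algebraMap] at hq
        rw [hq]
        exact Ideal.mul_mem_right _ _ hx
    haveI : FaithfulSMul G S := IsGaloisGroup.faithful (A := R)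
    refine eq_of_smul_eq_smul (α := S) fun s => ?_
    rw [one_smul, ← sub_eq_zero, ← Ideal.mem_bot,
      ← Ideal.iInf_pow_eq_bot_of_isLocalRing n (Ideal.IsMaximal.ne_top ‹_›), Ideal.mem_iInf]
    intro k
    exact Ideal.pow_le_pow_right k.le_succ (key k s)

end Groth.Agent.InertiaUnram4
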